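import Mathlib
import Groth.Agent.Lib.Lead.QC.IdealMod
import Groth.Agent.Lib.Lead.XS.HomTwist
import Groth.Agent.Lib.Lead.Curve.Euler
import Groth.Agent.Lib.Helper2.HomSh3
import Groth.Agent.Lib.Helper5.Lim.ModuleExt
import Groth.Agent.Lib.Helper5.AG.ProjProper
import Groth.Agent.Lib.Helper5.Snap.TP

/-!
# Linearly equivalent comparable effective Cartier divisors on a proper scheme over a field agree
-/

set_option autoImplicit false
set_option linter.style.haveILetI false
universe u
open CategoryTheory CategoryTheory.Limits AlgebraicGeometry TopologicalSpace Opposite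

namespace Groth.Agent.H5.LinEq

open Groth.Agent.LD Groth.Agent.LD.QC Groth.Agent.LD.XS

attribute [-instance] Groth.Agent.LD.QC.stalkModule

section incl

variable {X : Scheme.{u}}

/-- the inclusion `I₂ ⟶ O_X` of a smaller ideal sheaf is killed by `O_X ⟶ O_X / I₁`. -/
theorem idealModι_comp_toSubscheme {D₁ D₂ : X.IdealSheafData} (hle : D₂ ≤ D₁) :
    ClSub.idealModι D₂ ≫ ClSub.toSubscheme D₁ = 0 := by
  apply Groth.Agent.H5.Lim.hom_ext_of_affine_cover _ _ (fun U : X.affineOpens => U.1)
    (fun U => U.2)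
  · intro x _
    obtain ⟨U, hU, hxU, -⟩ := exists_isAffineOpen_mem_and_subset (x := x) (U := ⊤) trivial
    exact Opens.mem_iSup.2 ⟨⟨U, hU⟩, hxU⟩
  · intro U s
    have h1 : (ClSub.idealModι D₂).app U.1 s ∈ D₂.ideal U :=
      (exists_idealModι_app_eq_iff D₂ U _).mp ⟨s, rfl⟩
    have h2 : (ClSub.idealModι D₂).app U.1 s ∈ D₁.ideal U := hle U h1
    rw [← D₁.ker_subschemeι_app U] at h2
    change (ClSub.toSubscheme D₁).app U.1 ((ClSub.idealModι D₂).app U.1 s) = 0
    rw [toSubscheme_app]
    exact h2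

/-- the inclusion of ideal modules. -/
noncomputable def idealModIncl {D₁ D₂ : X.IdealSheafData} (hle : D₂ ≤ D₁) :
    ClSub.idealMod D₂ ⟶ ClSub.idealMod D₁ :=
  kernel.lift (ClSub.toSubscheme D₁) (ClSub.idealModι D₂) (idealModι_comp_toSubscheme hle)

@[reassoc (attr := simp)]
theorem idealModIncl_ι {D₁ D₂ : X.IdealSheafData} (hle : D₂ ≤ D₁) :
    idealModIncl hle ≫ ClSub.idealModι D₁ = ClSub.idealModι D₂ :=
  kernel.lift_ι _ _ _

/-- if the inclusion of ideal modules is an epimorphism on sections, the ideals agree. -/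
theorem le_of_isIso_idealModIncl {D₁ D₂ : X.IdealSheafData} (hle : D₂ ≤ D₁)
    [IsIso (idealModIncl hle)] : D₁ ≤ D₂ := by
  intro U s hs
  obtain ⟨t, ht⟩ := (exists_idealModι_app_eq_iff D₁ U s).mpr hs
  refine (exists_idealModι_app_eq_iff D₂ U s).mp ⟨(inv (idealModIncl hle)).app U.1 t, ?_⟩
  rw [← ht, ← idealModIncl_ι hle]
  change (ClSub.idealModι D₁).app U.1 ((idealModIncl hle).app U.1
    ((inv (idealModIncl hle)).app U.1 t)) = _
  have : (idealModIncl hle).app U.1 ((inv (idealModIncl hle)).app U.1 t) = t := by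
    have h := congr($(IsIso.inv_hom_id (idealModIncl hle)).app U.1 t)
    exact h
  rw [this]

end incl

section proper

variable (k : Type u) [Field k] (X : Scheme.{u}) [X.Over (Spec (CommRingCat.of k))]
  [IsProper (X ↘ Spec (CommRingCat.of k))]

/-- morphisms between coherent modules on a proper scheme over a field form a finite-dimensional
space. -/
theorem finite_hom (E F : X.Modules) (hE : Coh.IsCoh E) (hF : Coh.IsCoh F) :
    Module.Finite k (E ⟶ F) := by
  haveI := Curve.isLocallyNoetherian k X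
  haveI : Module.Finite k (Coh.HH X (RefHull.homSh E F) 0) :=
    Curve.finite_HH k X _ (Groth.Agent.H2.HomSh.isCoh_homSh hE hF) 0
  exact Module.Finite.equiv (homHH k E F).symm

include k in
/-- a monic endomorphism of a coherent module on a proper scheme over a field is invertible. -/
theorem isIso_of_mono_end (E : X.Modules) (hE : Coh.IsCoh E) (ψ : E ⟶ E) [Mono ψ] : IsIso ψ := by
  haveI := finite_hom k X E E hE hE
  let T : (E ⟶ E) →ₗ[k] (E ⟶ E) := Linear.rightComp k E ψ
  have hinj : Function.Injective T := fun x y h => (cancel_mono ψ).mp h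
  obtain ⟨x, hx⟩ := LinearMap.surjective_of_injective hinj (𝟙 E)
  have hx' : x ≫ ψ = 𝟙 E := hx
  refine ⟨x, ?_, hx'⟩
  rw [← cancel_mono ψ, Category.assoc, hx', Category.comp_id, Category.id_comp]

include k in
/-- **comparable, linearly equivalent effective Cartier divisors on a proper scheme over a field
are equal.** -/
theorem eq_of_le_of_iso (D₁ D₂ : X.IdealSheafData) (h₁ : BlowUp.IsEffCartierIdeal D₁)
    (hle : D₂ ≤ D₁) (hiso : Nonempty (ClSub.idealMod D₁ ≅ ClSub.idealMod D₂)) : D₁ = D₂ := by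
  obtain ⟨φ⟩ := hiso
  have hcoh : Coh.IsCoh (ClSub.idealMod D₁) :=
    Groth.Agent.H5.Snap.isCoh_of_isInvertible ((isInvertible_idealMod_iff D₁).mpr h₁)
  let ψ : ClSub.idealMod D₁ ⟶ ClSub.idealMod D₁ := φ.hom ≫ idealModIncl hle
  haveI : Mono (idealModIncl hle) := by
    apply (config := { allowSynthFailures := true }) mono_of_mono_fac (idealModIncl_ι hle)
  haveI : Mono ψ := mono_comp _ _
  haveI : IsIso ψ := isIso_of_mono_end k X _ hcoh ψ
  haveI : IsIso (idealModIncl hle) := by
    have : idealModIncl hle = φ.inv ≫ ψ := by simp [ψ]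
    rw [this]; infer_instance
  exact le_antisymm (le_of_isIso_idealModIncl hle) hle

end proper

end Groth.Agent.H5.LinEq
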